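import Groth.Prelude.Def_CAlgX
import Mathlib.RingTheory.MvPolynomial.Homogeneous
import Mathlib.RingTheory.MvPolynomial.Ideal
import Mathlib.RingTheory.Regular.RegularSequence
import Mathlib.LinearAlgebra.Pi

/-! # `H₁`-regular sequences are quasi-regular -/

namespace Groth.Agent.QReg

open MvPolynomial CAlgX

universe u

variable {R : Type u} [CommRing R] {c : ℕ}

/-- The trivial relations. -/
def triv (f : Fin c → R) : Submodule R (Fin c → R) :=
  Submodule.span R {v : Fin c → R | ∃ i j : Fin c, v = Pi.single i (f j) - Pi.single j (f i)}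

/-- A homogeneous polynomial of positive degree is `∑ X i * P i`. -/
theorem exists_decomp {σ : Type*} [Fintype σ] {n : ℕ} {P : MvPolynomial σ R}
    (hP : P.IsHomogeneous (n + 1)) :
    ∃ Q : σ → MvPolynomial σ R, (∀ i, (Q i).IsHomogeneous n) ∧ P = ∑ i, X i * Q i := by
  classical
  rw [P.as_sum]
  refine Finset.sum_induction (fun d => monomial d (coeff d P))
    (fun P => ∃ Q : σ → MvPolynomial σ R, (∀ i, (Q i).IsHomogeneous n) ∧ P = ∑ i, X i * Q i) ?_ ?_ ?_
  · rintro a b ⟨Qa, hQa, rfl⟩ ⟨Qb, hQb, rfl⟩
    exact ⟨Qa + Qb, fun i => (hQa i).add (hQb i), by simp [mul_add, Finset.sum_add_distrib]⟩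
  · exact ⟨0, fun i => isHomogeneous_zero _ _ _, by simp⟩
  · intro d hd
    have hdeg : d.degree = n + 1 := by
      by_contra hne
      exact mem_support_iff.1 hd (hP.coeff_eq_zero hne)
    obtain ⟨i, hi⟩ : ∃ i, d i ≠ 0 := by
      by_contra hcon
      push Not at hcon
      have : d = 0 := Finsupp.ext fun i => by simp [hcon i]
      simp [this] at hdeg
    have hle : Finsupp.single i 1 ≤ d := Finsupp.single_le_iff.2 (Nat.one_le_iff_ne_zero.2 hi)
    refine ⟨Pi.single i (monomial (d - Finsupp.single i 1) (coeff d P)), fun j => ?_, ?_⟩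
    · rcases eq_or_ne j i with rfl | hj
      · rw [Pi.single_eq_same]
        refine isHomogeneous_monomial _ ?_
        have := congrArg Finsupp.degree (tsub_add_cancel_of_le hle)
        simp [hdeg] at this
        omega
      · rw [Pi.single_eq_of_ne hj]; exact isHomogeneous_zero _ _ _
    · rw [Finset.sum_eq_single i (fun j _ hj => by rw [Pi.single_eq_of_ne hj, mul_zero])
        (fun h => absurd (Finset.mem_univ i) h), Pi.single_eq_same, X, monomial_mul, one_mul,
        add_tsub_cancel_of_le hle]

variable (f : Fin c → R)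

/-- The vectors `X b eₐ - X a e_b`. -/
noncomputable def wedge : Submodule (MvPolynomial (Fin c) R) (Fin c → MvPolynomial (Fin c) R) :=
  Submodule.span _ {v | ∃ a b : Fin c, v = Pi.single a (X b) - Pi.single b (X a)}

/-- `v ↦ ∑ f i • v i`. -/
noncomputable def dotF : (Fin c → MvPolynomial (Fin c) R) →ₗ[MvPolynomial (Fin c) R] MvPolynomial (Fin c) R :=
  Fintype.linearCombination _ fun i => C (f i)

theorem dotF_apply (v : Fin c → MvPolynomial (Fin c) R) : dotF f v = ∑ i, v i * C (f i) := by
  simp [dotF, Fintype.linearCombination_apply]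

/-- `v ↦ ∑ X i • v i`. -/
noncomputable def dotX : (Fin c → MvPolynomial (Fin c) R) →ₗ[MvPolynomial (Fin c) R] MvPolynomial (Fin c) R :=
  Fintype.linearCombination _ fun i => X i

theorem dotX_apply (v : Fin c → MvPolynomial (Fin c) R) : dotX v = ∑ i, v i * X i := by
  simp [dotX, Fintype.linearCombination_apply]

theorem dotX_wedge {v : Fin c → MvPolynomial (Fin c) R} (hv : v ∈ wedge) : dotX v = 0 := by
  refine (Submodule.span_le (p := LinearMap.ker dotX)).2 ?_ hv
  rintro _ ⟨a, b, rfl⟩
  simp [dotX_apply, sub_mul, Finset.sum_sub_distrib, Pi.single_apply, ite_mul, mul_ite, mul_sub]; ring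

/-- The kernel ideal generated by `f a X b - f b X a`. -/
noncomputable def relIdeal : Ideal (MvPolynomial (Fin c) R) := Submodule.map (dotF f) wedge

variable {f}

theorem relIdeal_coeff {P : MvPolynomial (Fin c) R} (hP : P ∈ relIdeal f) (d : Fin c →₀ ℕ) :
    P.coeff d ∈ Ideal.span (Set.range f) := by
  obtain ⟨v, -, rfl⟩ := hP
  rw [dotF_apply, coeff_sum]
  refine sum_mem fun i _ => ?_
  rw [mul_comm, coeff_C_mul]
  exact Ideal.mul_mem_right _ _ (Ideal.subset_span ⟨i, rfl⟩)

/-- `H₁`-regular: a homogeneous polynomial vanishing at `f` is in the relation ideal. -/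
theorem mem_relIdeal (hf : IsH1Regular f) : ∀ {n : ℕ} {P : MvPolynomial (Fin c) R},
    P.IsHomogeneous n → eval f P = 0 → P ∈ relIdeal f := by
  intro n
  induction n with
  | zero =>
    intro P hP h0
    rw [← totalDegree_zero_iff_isHomogeneous] at hP
    rw [totalDegree_eq_zero_iff_eq_C.1 hP, eval_C] at h0
    rw [totalDegree_eq_zero_iff_eq_C.1 hP, h0, map_zero]
    exact zero_mem _
  | succ n ih =>
    intro P hP h0
    obtain ⟨Q, hQ, rfl⟩ := exists_decomp hP
    have hG : dotF f Q ∈ relIdeal f := by
      refine ih ?_ ?_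
      · rw [dotF_apply]
        exact IsHomogeneous.sum _ _ _ fun i _ => by rw [mul_comm]; exact (hQ i).C_mul _
      · rw [dotF_apply, map_sum]
        simpa [mul_comm] using h0
    obtain ⟨w, hw, hwF⟩ := hG
    set V := Q - w
    have hV : dotF f V = 0 := by rw [map_sub, hwF, sub_self]
    have hsum : (∑ i, X i * Q i) = dotX V := by
      rw [map_sub, dotX_wedge hw, sub_zero, dotX_apply]
      exact Finset.sum_congr rfl fun i _ => mul_comm _ _
    rw [hsum]
    have hrel : ∀ d, (fun i => (V i).coeff d) ∈ triv f := fun d => hf _ (by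
      have := congrArg (coeff d) hV
      rw [dotF_apply, coeff_sum, coeff_zero] at this
      refine Eq.trans (Finset.sum_congr rfl fun i _ => ?_) this
      rw [mul_comm (V i), coeff_C_mul, mul_comm])
    have hVexp : V = ∑ d ∈ Finset.univ.biUnion (fun i => (V i).support),
        (fun i => monomial d ((V i).coeff d)) := by
      funext i
      rw [Finset.sum_apply]
      conv_lhs => rw [(V i).as_sum]
      refine Finset.sum_subset (Finset.subset_biUnion_of_mem (fun i => (V i).support) (Finset.mem_univ i))
        fun d _ hd => ?_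
      rw [notMem_support_iff.1 hd, monomial_zero]
    rw [hVexp, map_sum]
    refine sum_mem fun d _ => ?_
    let L : (Fin c → R) →ₗ[R] MvPolynomial (Fin c) R :=
      { toFun := fun v => dotX fun i => monomial d (v i)
        map_add' := fun v w => by simp [dotX_apply, add_mul, Finset.sum_add_distrib]
        map_smul' := fun r v => by
          simp [dotX_apply, Algebra.smul_def, Finset.mul_sum, ← C_mul_monomial, mul_assoc] }
    show L (fun i => (V i).coeff d) ∈ (relIdeal f).restrictScalars R
    have hle : triv f ≤ Submodule.comap L ((relIdeal f).restrictScalars R) := by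
      refine Submodule.span_le.2 ?_
      rintro _ ⟨i, j, rfl⟩
      show L _ ∈ relIdeal f
      refine ⟨monomial d (1 : R) • (Pi.single j (X i) - Pi.single i (X j)),
        Submodule.smul_mem _ _ (Submodule.subset_span ⟨j, i, rfl⟩), ?_⟩
      · show dotF f _ = dotX _
        have e : ∀ r : R, monomial d r = monomial d (1 : R) * C r := fun r => by
          rw [mul_comm, C_mul_monomial, mul_one]
        simp [dotF_apply, dotX_apply, Pi.single_apply, sub_mul, mul_sub, Finset.sum_sub_distrib,
          apply_ite (monomial d), e (f i), e (f j)]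
        ring
    exact hle (hrel d)

theorem exists_homogeneous_of_mem_pow {n : ℕ} {x : R} (hx : x ∈ Ideal.span (Set.range f) ^ n) :
    ∃ Q : MvPolynomial (Fin c) R, Q.IsHomogeneous n ∧ eval f Q = x := by
  induction n generalizing x with
  | zero => exact ⟨C x, isHomogeneous_C _ _, eval_C x⟩
  | succ n ih =>
    rw [pow_succ] at hx
    induction hx using Submodule.mul_induction_on' with
    | mem_mul_mem a ha b hb =>
      obtain ⟨Q, hQ, rfl⟩ := ih ha
      rw [Ideal.mem_span_range_iff_exists_fun] at hb
      obtain ⟨r, rfl⟩ := hb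
      exact ⟨Q * ∑ i, C (r i) * X i,
        hQ.mul (IsHomogeneous.sum _ _ _ fun i _ => (isHomogeneous_X R i).C_mul _), by simp⟩
    | add a _ b _ hA hB =>
      obtain ⟨Qa, hQa, rfl⟩ := hA
      obtain ⟨Qb, hQb, rfl⟩ := hB
      exact ⟨Qa + Qb, hQa.add hQb, map_add _ _ _⟩

/-- Reduce `eval f P ∈ J^(n+1)` to `eval f P = 0`. -/
theorem exists_correction {n : ℕ} {x : R} (hx : x ∈ Ideal.span (Set.range f) ^ (n + 1)) :
    ∃ Q : MvPolynomial (Fin c) R, Q.IsHomogeneous n ∧ eval f Q = x ∧
      ∀ d, Q.coeff d ∈ Ideal.span (Set.range f) := by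
  obtain ⟨P, hP, rfl⟩ := exists_homogeneous_of_mem_pow hx
  obtain ⟨Q, hQ, rfl⟩ := exists_decomp hP
  refine ⟨∑ i, C (f i) * Q i, IsHomogeneous.sum _ _ _ fun i _ => (hQ i).C_mul _, by simp, fun d => ?_⟩
  rw [coeff_sum]
  exact sum_mem fun i _ => by
    rw [coeff_C_mul]; exact Ideal.mul_mem_right _ _ (Ideal.subset_span ⟨i, rfl⟩)

theorem isQuasiRegular_of_isH1Regular (hf : IsH1Regular f) : IsQuasiRegular f := by
  intro n P hP hev d
  obtain ⟨Q, hQ, hQe, hQc⟩ := exists_correction hev
  have h := relIdeal_coeff (mem_relIdeal hf (hP.sub hQ) (by rw [map_sub, hQe, sub_self])) d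
  rw [coeff_sub] at h
  simpa using add_mem h (hQc d)

theorem isH1Regular_of_isWeaklyRegular : ∀ {c : ℕ} (f : Fin c → R),
    RingTheory.Sequence.IsWeaklyRegular R (List.ofFn f) → IsH1Regular f := by
  intro c
  induction c with
  | zero =>
    intro f _ a _
    rw [show a = 0 from funext fun i => i.elim0]
    exact zero_mem _
  | succ c ih =>
    intro f hf a ha
    classical
    rw [List.ofFn_succ', List.concat_eq_append, RingTheory.Sequence.isWeaklyRegular_append_iff,
      RingTheory.Sequence.isWeaklyRegular_singleton_iff] at hf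
    set J := Ideal.ofList (List.ofFn fun i => f (Fin.castSucc i))
    have hJ : J = Ideal.span (Set.range fun i => f (Fin.castSucc i)) := by
      refine congrArg Ideal.span (Set.ext fun z => ?_)
      simp [List.mem_ofFn]
    rw [Fin.sum_univ_castSucc] at ha
    have hlast : a (Fin.last c) ∈ J := by
      have h0 : f (Fin.last c) • (Submodule.Quotient.mk (a (Fin.last c)) : R ⧸ (J • ⊤ : Submodule R R)) = 0 := by
        rw [← Submodule.Quotient.mk_smul, Submodule.Quotient.mk_eq_zero]
        simp only [smul_eq_mul, Ideal.mul_top]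
        rw [mul_comm (f _), eq_neg_of_add_eq_zero_right ha]
        refine neg_mem (sum_mem fun i _ => ?_)
        rw [hJ]
        exact Ideal.mul_mem_left _ _ (Ideal.subset_span ⟨i, rfl⟩)
      have := hf.2.right_eq_zero_of_smul h0
      rwa [Submodule.Quotient.mk_eq_zero, Ideal.smul_eq_mul, Ideal.mul_top] at this
    rw [hJ, Ideal.mem_span_range_iff_exists_fun] at hlast
    obtain ⟨b, hb⟩ := hlast
    set T : Fin (c + 1) → R := ∑ i, b i •
      (Pi.single (Fin.last c) (f (Fin.castSucc i)) - Pi.single (Fin.castSucc i) (f (Fin.last c)))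
    have hT : T ∈ triv f := sum_mem fun i _ => Submodule.smul_mem _ _ (Submodule.subset_span ⟨_, _, rfl⟩)
    have hTlast : T (Fin.last c) = a (Fin.last c) := by
      rw [← hb]
      simp [T, Finset.sum_apply, (Fin.castSucc_lt_last _).ne']
    have hTc : ∀ i, T (Fin.castSucc i) = -(b i * f (Fin.last c)) := fun i => by
      simp [T, Finset.sum_apply, (Fin.castSucc_lt_last _).ne, Pi.single_apply, mul_ite, Finset.sum_ite_eq]
    have hrest : (fun i => a (Fin.castSucc i) - T (Fin.castSucc i)) ∈ triv fun i => f (Fin.castSucc i) := by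
      refine ih _ hf.1 _ ?_
      simp only [hTc, sub_neg_eq_add, add_mul, Finset.sum_add_distrib]
      rw [eq_neg_of_add_eq_zero_left ha, ← hb, Finset.sum_mul, neg_add_eq_zero]
      exact Finset.sum_congr rfl fun i _ => by ring
    let E : (Fin c → R) →ₗ[R] (Fin (c + 1) → R) :=
      { toFun := fun v => Fin.snoc v 0
        map_add' := fun v w => by funext i; refine Fin.lastCases ?_ ?_ i <;> simp
        map_smul' := fun r v => by funext i; refine Fin.lastCases ?_ ?_ i <;> simp }
    have hE : triv (fun i => f (Fin.castSucc i)) ≤ Submodule.comap E (triv f) := by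
      refine Submodule.span_le.2 ?_
      rintro _ ⟨i, j, rfl⟩
      refine Submodule.subset_span ⟨i.castSucc, j.castSucc, ?_⟩
      funext l
      refine Fin.lastCases ?_ (fun l => ?_) l
      · simp [E, (Fin.castSucc_lt_last _).ne']
      · simp [E, Pi.single_apply]
    have key : a = T + E (fun i => a (Fin.castSucc i) - T (Fin.castSucc i)) := by
      funext l
      refine Fin.lastCases ?_ (fun l => ?_) l
      · simp [E, hTlast]
      · simp [E]
    rw [key]
    exact add_mem hT (hE hrest)

end Groth.Agent.QReg
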