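import Groth.Agent.Lib.QReg.Basic
import Mathlib.RingTheory.Ideal.Quotient.Operations
import Mathlib.Data.Finsupp.Basic
import Mathlib.Logic.Equiv.Fin.Basic

/-! # Concatenation of quasi-regular sequences -/

namespace Groth.Agent.QReg

open MvPolynomial CAlgX

universe u

variable {A : Type u} [CommRing A] {n m : ℕ} (f : Fin n → A) (g : Fin m → A)

/-- Elements of `J^a G^b` are values of bihomogeneous polynomials. -/
theorem exists_bihom {a b : ℕ} {x : A}
    (hx : x ∈ Ideal.span (Set.range f) ^ a * Ideal.span (Set.range g) ^ b) :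
    ∃ P : MvPolynomial (Fin n ⊕ Fin m) A, P.IsHomogeneous (a + b) ∧
      (∀ e ∈ P.support, a ≤ ∑ i, e (Sum.inl i)) ∧ eval (Sum.elim f g) P = x := by
  classical
  induction hx using Submodule.mul_induction_on' with
  | mem_mul_mem y hy z hz =>
    obtain ⟨Q, hQ, rfl⟩ := exists_homogeneous_of_mem_pow hy
    obtain ⟨R, hR, rfl⟩ := exists_homogeneous_of_mem_pow hz
    refine ⟨rename Sum.inl Q * rename Sum.inr R, hQ.rename_isHomogeneous.mul hR.rename_isHomogeneous,
      fun e he => ?_, by simp [eval_rename]⟩
    obtain ⟨e1, he1, e2, he2, rfl⟩ := Finset.mem_add.1 (support_mul _ _ he)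
    rw [support_rename_of_injective Sum.inl_injective, Finset.mem_image] at he1
    obtain ⟨d, hd, rfl⟩ := he1
    have hd' : d.degree = a := by
      by_contra hne; exact mem_support_iff.1 hd (hQ.coeff_eq_zero hne)
    rw [← hd', Finsupp.degree_eq_sum]
    refine Finset.sum_le_sum fun i _ => ?_
    simp [Finsupp.mapDomain_apply Sum.inl_injective]
  | add y _ z _ hy hz =>
    obtain ⟨P, hP, hP', rfl⟩ := hy
    obtain ⟨Q, hQ, hQ', rfl⟩ := hz
    refine ⟨P + Q, hP.add hQ, fun e he => ?_, map_add _ _ _⟩
    rcases Finset.mem_union.1 (support_add he) with h | h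
    exacts [hP' e h, hQ' e h]

variable {f g}

theorem homogeneousComponent_mul_X {σ R : Type*} [CommRing R] (t : ℕ) (c : MvPolynomial σ R) (i : σ) :
    homogeneousComponent (t + 1) (c * X i) = homogeneousComponent t c * X i := by
  classical
  ext e
  rw [coeff_homogeneousComponent, coeff_mul_X', coeff_mul_X', coeff_homogeneousComponent]
  by_cases hi : i ∈ e.support
  · rw [if_pos hi, if_pos hi]
    have hle : Finsupp.single i 1 ≤ e :=
      Finsupp.single_le_iff.2 (Nat.one_le_iff_ne_zero.2 (Finsupp.mem_support_iff.1 hi))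
    have h := congrArg Finsupp.degree (tsub_add_cancel_of_le hle)
    simp only [map_add, Finsupp.degree_single] at h
    exact if_congr (by omega) rfl rfl
  · rw [if_neg hi, if_neg hi]; simp

theorem append_aux (hf : IsQuasiRegular f)
    (hg : IsH1Regular fun j => Ideal.Quotient.mk (Ideal.span (Set.range f)) (g j)) (N : ℕ) :
    ∀ k s, s + k = N + 1 → ∀ P : MvPolynomial (Fin n ⊕ Fin m) A, P.IsHomogeneous N →
      (∀ e ∈ P.support, s ≤ ∑ i, e (Sum.inl i)) → eval (Sum.elim f g) P = 0 →
      ∀ e, P.coeff e ∈ Ideal.span (Set.range f) ⊔ Ideal.span (Set.range g) := by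
  classical
  set J := Ideal.span (Set.range f)
  set G := Ideal.span (Set.range g)
  have hdeg : ∀ {P : MvPolynomial (Fin n ⊕ Fin m) A}, P.IsHomogeneous N → ∀ e ∈ P.support,
      (∑ i, e (Sum.inl i)) + ∑ j, e (Sum.inr j) = N := by
    intro P hP e he
    rw [← Fintype.sum_sum_type (fun v => e v), ← Finsupp.degree_eq_sum]
    by_contra hne
    exact mem_support_iff.1 he (hP.coeff_eq_zero hne)
  intro k
  induction k with
  | zero =>
    intro s hs P hP hsupp _ e
    by_cases he : e ∈ P.support
    · have := hsupp e he; have := hdeg hP e he; omega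
    · rw [notMem_support_iff.1 he]; exact zero_mem _
  | succ k ih =>
    intro s hs P hP hsupp h0
    set S := P.support.filter fun e => ∑ i, e (Sum.inl i) = s
    set Ph : MvPolynomial (Fin n ⊕ Fin m) A :=
      ∑ e ∈ P.support.filter (fun e => ¬ ∑ i, e (Sum.inl i) = s), monomial e (P.coeff e)
    let πX : (Fin n ⊕ Fin m →₀ ℕ) → (Fin n →₀ ℕ) := fun e => (Finsupp.sumFinsuppEquivProdFinsupp e).1
    let πY : (Fin n ⊕ Fin m →₀ ℕ) → (Fin m →₀ ℕ) := fun e => (Finsupp.sumFinsuppEquivProdFinsupp e).2
    have hπ : Function.Injective fun e => (πX e, πY e) :=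
      fun e e' h => Finsupp.sumFinsuppEquivProdFinsupp.injective h
    let Q : (Fin n →₀ ℕ) → MvPolynomial (Fin m) A := fun d =>
      ∑ e ∈ S.filter (fun e => πX e = d), monomial (πY e) (P.coeff e)
    have hQhom : ∀ d, (Q d).IsHomogeneous (N - s) := fun d => IsHomogeneous.sum _ _ _ fun e he => by
      refine isHomogeneous_monomial _ ?_
      obtain ⟨he1, -⟩ := Finset.mem_filter.1 he
      obtain ⟨he1, he2⟩ := Finset.mem_filter.1 he1
      have := hdeg hP e he1
      simp only [Finsupp.degree_eq_sum, πY, Finsupp.snd_sumFinsuppEquivProdFinsupp]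
      omega
    have hmono : ∀ e, eval (Sum.elim f g) (monomial e (P.coeff e)) =
        (∏ i, f i ^ πX e i) * (P.coeff e * ∏ j, g j ^ πY e j) := fun e => by
      rw [eval_monomial, Finsupp.prod_fintype _ _ (fun _ => pow_zero _), Fintype.prod_sum_type]
      simp only [Sum.elim_inl, Sum.elim_inr, πX, πY, Finsupp.fst_sumFinsuppEquivProdFinsupp,
        Finsupp.snd_sumFinsuppEquivProdFinsupp]
      ring
    have hQev : ∀ d, eval g (Q d) = ∑ e ∈ S.filter (fun e => πX e = d), P.coeff e * ∏ j, g j ^ πY e j := by
      intro d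
      simp only [Q, map_sum, eval_monomial]
      exact Finset.sum_congr rfl fun e _ => by rw [Finsupp.prod_fintype _ _ (fun _ => pow_zero _)]
    set R : MvPolynomial (Fin n) A := ∑ d ∈ S.image πX, monomial d (eval g (Q d))
    have hR : R.IsHomogeneous s := IsHomogeneous.sum _ _ _ fun d hd => by
      obtain ⟨e, he, rfl⟩ := Finset.mem_image.1 hd
      refine isHomogeneous_monomial _ ?_
      simpa [Finsupp.degree_eq_sum, πX] using (Finset.mem_filter.1 he).2
    have hRev : eval f R = ∑ e ∈ S, eval (Sum.elim f g) (monomial e (P.coeff e)) := by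
      simp only [R, map_sum, eval_monomial]
      rw [← Finset.sum_fiberwise_of_maps_to (t := S.image πX) (g := πX)
        (fun e he => Finset.mem_image_of_mem _ he)]
      refine Finset.sum_congr rfl fun d _ => ?_
      rw [Finsupp.prod_fintype _ _ (fun _ => pow_zero _), hQev, Finset.sum_mul]
      refine Finset.sum_congr rfl fun e he => ?_
      rw [← eval_monomial, hmono, ← (Finset.mem_filter.1 he).2, mul_comm]
    have hsplit : eval f R + eval (Sum.elim f g) Ph = 0 := by
      rw [hRev, map_sum, Finset.sum_filter_add_sum_filter_not, ← map_sum, ← as_sum]; exact h0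
    have hPhmem : ∀ e ∈ P.support.filter (fun e => ¬ ∑ i, e (Sum.inl i) = s),
        s + 1 ≤ ∑ i, e (Sum.inl i) := fun e he => by
      obtain ⟨he1, he2⟩ := Finset.mem_filter.1 he
      have := hsupp e he1
      omega
    have hhigh : eval (Sum.elim f g) Ph ∈ J ^ (s + 1) := by
      rw [map_sum]
      refine sum_mem fun e he => ?_
      rw [hmono]
      refine Ideal.mul_mem_right _ _ (Ideal.pow_le_pow_right (hPhmem e he) ?_)
      simp only [πX, Finsupp.fst_sumFinsuppEquivProdFinsupp]
      rw [← Finset.prod_pow_eq_pow_sum]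
      exact Ideal.prod_mem_prod fun i _ => Ideal.pow_mem_pow (Ideal.subset_span (Set.mem_range_self i)) _
    have hy : ∀ d ∈ S.image πX, eval g (Q d) ∈ J := by
      intro d hd
      have := hf s R hR (by rw [eq_neg_of_add_eq_zero_left hsplit]; exact neg_mem hhigh) d
      simpa [R, coeff_sum, coeff_monomial, hd] using this
    have hlayer : ∀ d ∈ S.image πX, (∀ e', (Q d).coeff e' ∈ J ⊔ G) ∧ eval g (Q d) ∈ J * G ^ (N - s) := by
      intro d hd
      have hz : eval (fun j => Ideal.Quotient.mk J (g j)) (MvPolynomial.map (Ideal.Quotient.mk J) (Q d)) = 0 := by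
        rw [eval_map]
        show eval₂ (Ideal.Quotient.mk J) (Ideal.Quotient.mk J ∘ g) (Q d) = 0
        rw [← eval₂_comp, Ideal.Quotient.eq_zero_iff_mem]
        exact hy d hd
      obtain ⟨w, hw, hwF⟩ := mem_relIdeal hg ((hQhom d).map _) hz
      have hcoef : ∀ e', (Q d).coeff e' ∈ J ⊔ G := fun e' => by
        have := relIdeal_coeff (f := fun j => Ideal.Quotient.mk J (g j)) ⟨w, hw, hwF⟩ e'
        rw [coeff_map, show Set.range (fun j => Ideal.Quotient.mk J (g j)) =
          Ideal.Quotient.mk J '' Set.range g by rw [← Set.range_comp]; rfl, ← Ideal.map_span,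
          Ideal.mem_quotient_iff_mem_sup, sup_comm] at this
        exact this
      refine ⟨hcoef, ?_⟩
      -- lift the relation to `A`
      have hsurj : Function.Surjective (MvPolynomial.map (Ideal.Quotient.mk J) (σ := Fin m)) :=
        MvPolynomial.map_surjective _ Ideal.Quotient.mk_surjective
      have hlift : ∀ v ∈ (wedge : Submodule (MvPolynomial (Fin m) (A ⧸ J)) _),
          ∃ v' ∈ (wedge : Submodule (MvPolynomial (Fin m) A) _),
            ∀ i, MvPolynomial.map (Ideal.Quotient.mk J) (v' i) = v i := by
        intro v hv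
        induction hv using Submodule.span_induction with
        | mem v hv =>
          obtain ⟨a, b, rfl⟩ := hv
          refine ⟨_, Submodule.subset_span ⟨a, b, rfl⟩, fun i => ?_⟩
          simp only [Pi.sub_apply, Pi.single_apply, map_sub]
          split <;> split <;> simp only [map_X, map_zero]
        | zero => exact ⟨0, zero_mem _, fun i => by simp⟩
        | add v w _ _ hv hw =>
          obtain ⟨v', h1, h2⟩ := hv
          obtain ⟨w', h3, h4⟩ := hw
          exact ⟨v' + w', add_mem h1 h3, fun i => by simp [h2, h4]⟩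
        | smul r v _ hv =>
          obtain ⟨v', h1, h2⟩ := hv
          obtain ⟨r', rfl⟩ := hsurj r
          exact ⟨r' • v', Submodule.smul_mem _ _ h1, fun i => by simp [h2]⟩
      obtain ⟨w', hw', hw''⟩ := hlift w hw
      set r := homogeneousComponent (N - s) (Q d - dotF g w')
      have hrc : ∀ e', r.coeff e' ∈ J := fun e' => by
        rw [coeff_homogeneousComponent]
        split
        · rw [← Ideal.Quotient.eq_zero_iff_mem, ← coeff_map]
          rw [map_sub, ← hwF]
          simp [dotF_apply, hw'']
        · exact zero_mem _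
      have hre : eval g r = eval g (Q d) := by
        have hk : eval g (homogeneousComponent (N - s) (dotF g w')) = 0 := by
          have h1 := congrArg (fun q => eval g (homogeneousComponent (N - s + 1) q)) (dotX_wedge hw')
          simp only [dotX_apply, map_sum, map_zero, homogeneousComponent_mul_X] at h1
          rw [dotF_apply, map_sum, map_sum]
          refine (Finset.sum_congr rfl fun i _ => ?_).trans h1
          rw [mul_comm (w' i), homogeneousComponent_C_mul, map_mul, map_mul, eval_C, eval_X, mul_comm]
        simp only [r]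
        rw [map_sub, map_sub, hk, sub_zero, homogeneousComponent_of_mem (hQhom d), if_pos rfl]
      rw [← hre, r.as_sum, map_sum]
      refine sum_mem fun e' he' => ?_
      rw [eval_monomial]
      refine Ideal.mul_mem_mul (hrc e') ?_
      have hd' : e'.degree = N - s := by
        by_contra hne
        exact mem_support_iff.1 he' ((homogeneousComponent_isHomogeneous _ _).coeff_eq_zero hne)
      rw [← hd', Finsupp.degree_apply, ← Finset.prod_pow_eq_pow_sum]
      exact Ideal.prod_mem_prod fun i _ => Ideal.pow_mem_pow (Ideal.subset_span (Set.mem_range_self i)) _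
    have hS : ∀ e ∈ S, P.coeff e ∈ J ⊔ G := fun e he => by
      have := (hlayer _ (Finset.mem_image_of_mem πX he)).1 (πY e)
      simp only [Q, coeff_sum, coeff_monomial] at this
      rw [Finset.sum_eq_single e] at this
      · rwa [if_pos rfl] at this
      · intro e' he' hne
        exact if_neg fun h => hne (hπ (Prod.ext (Finset.mem_filter.1 he').2 h))
      · intro h; exact absurd (Finset.mem_filter.2 ⟨he, rfl⟩ : e ∈ S.filter (fun x => πX x = πX e)) h
    intro e
    by_cases he : e ∈ S
    · exact hS e he
    by_cases he' : e ∈ P.support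
    swap
    · rw [notMem_support_iff.1 he']; exact zero_mem _
    have hes : ¬ ∑ i, e (Sum.inl i) = s := fun h => he (Finset.mem_filter.2 ⟨he', h⟩)
    have hlt := hPhmem e (Finset.mem_filter.2 ⟨he', hes⟩)
    have := hdeg hP e he'
    have hsN : s + 1 ≤ N := by omega
    have hRmem : eval f R ∈ (J ^ (s + 1) * G ^ (N - s - 1)) * G := by
      rw [mul_assoc, ← pow_succ, show N - s - 1 + 1 = N - s by omega, pow_succ, mul_assoc]
      simp only [R, map_sum, eval_monomial]
      refine sum_mem fun d hd => ?_
      rw [mul_comm (eval g (Q d))]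
      refine Ideal.mul_mem_mul ?_ (hlayer d hd).2
      have hds : d.degree = s := by
        obtain ⟨e₁, he₁, rfl⟩ := Finset.mem_image.1 hd
        simpa [Finsupp.degree_eq_sum, πX] using (Finset.mem_filter.1 he₁).2
      rw [← hds, Finsupp.degree_apply, ← Finset.prod_pow_eq_pow_sum]
      exact Ideal.prod_mem_prod fun i _ => Ideal.pow_mem_pow (Ideal.subset_span (Set.mem_range_self i)) _
    obtain ⟨T, hT, hTs, hTe, hTc⟩ : ∃ T : MvPolynomial (Fin n ⊕ Fin m) A, T.IsHomogeneous N ∧
        (∀ e ∈ T.support, s + 1 ≤ ∑ i, e (Sum.inl i)) ∧ eval (Sum.elim f g) T = eval f R ∧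
        ∀ e, T.coeff e ∈ J ⊔ G := by
      generalize eval f R = x at hRmem ⊢
      induction hRmem using Submodule.mul_induction_on' with
      | mem_mul_mem y hy z hz =>
        obtain ⟨T, hT, hTs, rfl⟩ := exists_bihom f g hy
        refine ⟨C z * T, by simpa [show s + 1 + (N - s - 1) = N by omega] using hT.C_mul z,
          fun e he => hTs e ?_, by simp [mul_comm], fun e => ?_⟩
        · rw [mem_support_iff, coeff_C_mul] at he; exact mem_support_iff.2 (right_ne_zero_of_mul he)
        · rw [coeff_C_mul]; exact Ideal.mul_mem_right _ _ (Ideal.mem_sup_right hz)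
      | add y _ z _ hy hz =>
        obtain ⟨T1, h1, h2, h3, h4⟩ := hy
        obtain ⟨T2, k1, k2, k3, k4⟩ := hz
        refine ⟨T1 + T2, h1.add k1, fun e he => ?_, by rw [map_add, h3, k3],
          fun e => by rw [coeff_add]; exact add_mem (h4 e) (k4 e)⟩
        rcases Finset.mem_union.1 (support_add he) with h | h
        exacts [h2 e h, k2 e h]
    have hPh : Ph.IsHomogeneous N := IsHomogeneous.sum _ _ _ fun e he => isHomogeneous_monomial _ (by
      rw [Finsupp.degree_eq_sum, Fintype.sum_sum_type]; exact hdeg hP e (Finset.mem_filter.1 he).1)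
    have hnew := ih (s + 1) (by omega) (T + Ph) (hT.add hPh) (fun e he => by
      rcases Finset.mem_union.1 (support_add he) with h | h
      · exact hTs e h
      · rw [mem_support_iff] at h
        by_contra hcon
        apply h
        simp only [Ph, coeff_sum, coeff_monomial]
        refine Finset.sum_eq_zero fun e₁ he₁ => if_neg ?_
        rintro rfl
        exact hcon (hPhmem _ he₁)) (by rw [map_add, hTe, hsplit]) e
    rw [coeff_add] at hnew
    have hPhc : Ph.coeff e = P.coeff e := by
      simp only [Ph, coeff_sum, coeff_monomial, Finset.sum_ite_eq']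
      rw [if_pos (Finset.mem_filter.2 ⟨he', hes⟩)]
    rw [hPhc] at hnew
    simpa using sub_mem hnew (hTc e)

theorem isQuasiRegular_append (hf : IsQuasiRegular f)
    (hg : IsH1Regular fun j => Ideal.Quotient.mk (Ideal.span (Set.range f)) (g j)) :
    IsQuasiRegular (Fin.append f g) := by
  intro N P hP hev d
  obtain ⟨Q, hQ, hQe, hQc⟩ := exists_correction hev
  set σ := (finSumFinEquiv (m := n) (n := m)).symm
  have hcomp : Sum.elim f g ∘ σ = Fin.append f g := by
    funext i; refine Fin.addCases (fun i => ?_) (fun i => ?_) i <;> simp [σ]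
  have h := append_aux hf hg N (N + 1) 0 (Nat.zero_add _) (rename σ (P - Q))
    (hP.sub hQ).rename_isHomogeneous (fun _ _ => Nat.zero_le _)
    (by rw [eval_rename, hcomp, map_sub, hQe, sub_self]) (d.mapDomain σ)
  rw [coeff_rename_mapDomain _ σ.injective, coeff_sub, ← Ideal.span_union] at h
  have hr : Set.range f ∪ Set.range g = Set.range (Fin.append f g) := by
    rw [← hcomp, σ.surjective.range_comp, Set.Sum.elim_range]
  rw [hr] at h
  simpa using add_mem h (hQc d)

end Groth.Agent.QReg
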